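import Mathlib

/-! An invertible module `N` with `N^n ≃ R^n` has `n`-torsion class. -/

set_option autoImplicit false

universe u v

open scoped TensorProduct
open Module

namespace Groth.Agent.PicTorsion

variable {R : Type u} [CommRing R]

theorem pow_spec (N : Type v) [AddCommGroup N] [Module R N] [Module.Invertible R N] (k : ℕ) :
    ∃ _ : Module.Invertible R (⨂[R] _ : Fin k, N),
      CommRing.Pic.mk R (⨂[R] _ : Fin k, N) = CommRing.Pic.mk R N ^ k := by
  induction k with
  | zero =>
    let e := PiTensorProduct.isEmptyEquiv (R := R) (s := fun _ : Fin 0 => N) (Fin 0)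
    haveI := Module.Invertible.congr e.symm
    exact ⟨inferInstance, by rw [pow_zero]; exact CommRing.Pic.mk_eq_one_iff.mpr ⟨e⟩⟩
  | succ k ih =>
    obtain ⟨_, hk⟩ := ih
    let e : ((⨂[R] _ : Fin k, N) ⊗[R] N) ≃ₗ[R] ⨂[R] _ : Fin (k + 1), N :=
      (TensorProduct.congr (LinearEquiv.refl R _)
        (PiTensorProduct.subsingletonEquiv (R := R) (s := fun _ : Fin 1 => N) 0).symm).trans
        ((PiTensorProduct.tmulEquiv R N).trans (PiTensorProduct.reindex R (fun _ => N) finSumFinEquiv))
    haveI := Module.Invertible.congr e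
    exact ⟨inferInstance, by
      rw [← CommRing.Pic.mk_eq_mk_iff.mpr ⟨e⟩, CommRing.Pic.mk_tensor, hk, pow_succ]⟩

theorem mul_comm_of_invertible {N : Type v} [AddCommGroup N] [Module R N] [Module.Invertible R N]
    (φ ψ : N →ₗ[R] R) (a b : N) : φ a * ψ b = φ b * ψ a := by
  have h := congrArg (TensorProduct.lift ((LinearMap.mul R R).compl₁₂ φ ψ))
    (Module.Invertible.tmul_comm (R := R) (m₁ := a) (m₂ := b))
  simpa using h

/-- An alternating form vanishes when two arguments have all `2 × 2` minors zero. -/
theorem alternating_eq_zero {ι : Type*} [DecidableEq ι] {n : ℕ}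
    (D : AlternatingMap R (Fin n → R) R ι) (r : ι → Fin n → R) {j k : ι} (hjk : j ≠ k)
    (h : ∀ p q, r j p * r k q = r j q * r k p) : D r = 0 := by
  classical
  let E : Fin n → Fin n → R := Pi.basisFun R (Fin n)
  let β : Fin n → Fin n → R := fun p q => D (Function.update (Function.update r j (E p)) k (E q))
  have hr : D r = ∑ p, ∑ q, (r j p * r k q) * β p q := by
    have hsum : ∀ v : Fin n → R, v = ∑ p, v p • E p := fun v => by
      conv_lhs => rw [← (Pi.basisFun R (Fin n)).sum_repr v]
      simp [E]
    conv_lhs =>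
      rw [← Function.update_eq_self j r, hsum (r j), D.map_update_sum]
    refine Finset.sum_congr rfl fun p _ => ?_
    rw [D.map_update_smul]
    conv_lhs =>
      rw [← Function.update_eq_self k (Function.update r j (E p)),
        Function.update_of_ne hjk.symm, hsum (r k), D.map_update_sum]
    rw [Finset.smul_sum]
    refine Finset.sum_congr rfl fun q _ => ?_
    rw [D.map_update_smul, smul_eq_mul, smul_eq_mul, mul_assoc]
  rw [hr, ← Fintype.sum_prod_type']
  refine Finset.sum_involution (fun x _ => (x.2, x.1)) ?_ ?_ (fun _ _ => Finset.mem_univ _) (fun _ _ => rfl)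
  · rintro ⟨p, q⟩ -
    have hswap := D.map_swap (Function.update (Function.update r j (E p)) k (E q)) hjk
    have he : (Function.update (Function.update r j (E p)) k (E q)) ∘ Equiv.swap j k =
        Function.update (Function.update r j (E q)) k (E p) := by
      funext i
      rcases eq_or_ne i j with rfl | hij
      · simp [hjk]
      rcases eq_or_ne i k with rfl | hik
      · simp [hjk]
      simp [Equiv.swap_apply_of_ne_of_ne hij hik, hij, hik]
    rw [he] at hswap
    show r j p * r k q * β p q + r j q * r k p * β q p = 0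
    rw [show β q p = -β p q from hswap, h p q]
    ring
  · rintro ⟨p, q⟩ - hne heq
    obtain rfl : q = p := (Prod.ext_iff.mp heq).1
    refine hne ?_
    show r j q * r k q * β q q = 0
    rw [show β q q = 0 from D.map_eq_zero_of_eq _ (by simp [hjk]) hjk, mul_zero]

theorem mk_pow_eq_one (N : Type v) [AddCommGroup N] [Module R N] [Module.Invertible R N] (n : ℕ)
    (e : (Fin n → N) ≃ₗ[R] (Fin n → R)) : CommRing.Pic.mk R N ^ n = 1 := by
  classical
  obtain ⟨_, hn⟩ := pow_spec (R := R) N n
  rw [← hn]
  let L : Fin n → N →ₗ[R] Fin n → R := fun i => e.toLinearMap ∘ₗ LinearMap.single R (fun _ => N) i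
  let M := (Matrix.detRowAlternating (n := Fin n) (R := R)).toMultilinearMap.compLinearMap L
  let f := PiTensorProduct.lift M
  suffices h1 : (1 : R) ∈ LinearMap.range f by
    have hs : Function.Surjective f := fun r => by
      obtain ⟨x, hx⟩ := h1
      exact ⟨r • x, by rw [map_smul, hx, smul_eq_mul, mul_one]⟩
    exact CommRing.Pic.mk_eq_one_iff.mpr
      ⟨LinearEquiv.ofBijective f (Module.Invertible.bijective_of_surjective hs)⟩
  let y : Fin n → Fin n → N := fun j => e.symm (Pi.single j 1)
  have hy : (fun j => ∑ i, L i (y j i)) = fun j : Fin n => (Pi.single j (1 : R) : Fin n → R) := by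
    funext j
    have : ∀ i, L i (y j i) = e (Pi.single i (y j i)) := fun i => rfl
    simp_rw [this, ← map_sum]
    rw [show (∑ i, Pi.single i (y j i)) = y j from Finset.univ_sum_single (y j), LinearEquiv.apply_symm_apply]
  have h1 : (1 : R) = ∑ σ : Fin n → Fin n, Matrix.detRowAlternating fun j => L (σ j) (y j (σ j)) := by
    refine Eq.trans ?_ ((Matrix.detRowAlternating (n := Fin n) (R := R)).toMultilinearMap.map_sum
      fun j i => L i (y j i))
    rw [hy]
    refine (Matrix.det_one (n := Fin n) (R := R)).symm.trans (congrArg Matrix.det ?_)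
    ext i j
    simp [Matrix.one_apply, Pi.single_apply, eq_comm]
  rw [h1]
  refine Submodule.sum_mem _ fun σ _ => ?_
  by_cases hσ : Function.Injective σ
  · let π := Equiv.ofBijective σ ⟨hσ, Finite.injective_iff_surjective.mp hσ⟩
    let g : Fin n → Fin n → R := fun i => L i (y (π.symm i) i)
    have hg : (fun j => L (σ j) (y j (σ j))) = g ∘ π := funext fun j => by
      show _ = L (π j) (y (π.symm (π j)) (π j))
      rw [Equiv.symm_apply_apply]
      rfl
    rw [hg, AlternatingMap.map_perm]
    refine Submodule.smul_of_tower_mem _ _ ⟨PiTensorProduct.tprod R fun i => y (π.symm i) i, ?_⟩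
    simp [f, M, g]
  · rw [Function.Injective] at hσ
    push Not at hσ
    obtain ⟨j, k, hjk, hne⟩ := hσ
    rw [alternating_eq_zero _ _ hne fun p q => ?_]
    · exact zero_mem _
    · rw [← hjk]
      exact mul_comm_of_invertible ((LinearMap.proj p).comp (L (σ j))) ((LinearMap.proj q).comp (L (σ j)))
        (y j (σ j)) (y k (σ j)) |>.trans (mul_comm _ _)

end Groth.Agent.PicTorsion
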